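import Mathlib

/-!
# Splitting of the filtration maps of a finite length Fontaine–Laffaille type datum
-/

set_option autoImplicit false

universe u v

namespace Groth.Agent.FLSplit


/-- A module with scalars twisted by a ring endomorphism. -/
def Tw {R : Type*} [CommRing R] (_ : R →+* R) (M : Type v) : Type v := M

instance {R : Type*} [CommRing R] (σ : R →+* R) (M : Type v) [AddCommGroup M] : AddCommGroup (Tw σ M) :=
  inferInstanceAs (AddCommGroup M)

instance {R : Type*} [CommRing R] (σ : R →+* R) (M : Type v) [AddCommGroup M] [Module R M] : Module R (Tw σ M) :=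
  Module.compHom M σ

theorem length_tw {R : Type*} [CommRing R] (σ : R →+* R) (hσ : Function.Surjective σ) (M : Type v) [AddCommGroup M]
    [Module R M] : Module.length R (Tw σ M) = Module.length R M := by
  let e : Submodule R (Tw σ M) ≃o Submodule R M :=
    { toFun := fun P =>
        { carrier := (P : Set (Tw σ M))
          add_mem' := P.add_mem
          zero_mem' := P.zero_mem
          smul_mem' := fun c x hx => by
            obtain ⟨d, rfl⟩ := hσ c
            exact P.smul_mem d hx }
      invFun := fun P =>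
        { carrier := (P : Set M)
          add_mem' := P.add_mem
          zero_mem' := P.zero_mem
          smul_mem' := fun c x hx => P.smul_mem (σ c) hx }
      left_inv := fun _ => rfl
      right_inv := fun _ => rfl
      map_rel_iff' := Iff.rfl }
  apply WithBot.coe_injective
  rw [Module.coe_length, Module.coe_length, Order.krullDim_eq_of_orderIso e]

/-- A submodule, in the twisted module. -/
def twSub {R : Type*} [CommRing R] (σ : R →+* R) {M : Type v} [AddCommGroup M] [Module R M] (P : Submodule R M) :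
    Submodule R (Tw σ M) where
  carrier := {x | (show M from x) ∈ P}
  add_mem' := P.add_mem
  zero_mem' := P.zero_mem
  smul_mem' c _ hx := P.smul_mem (σ c) hx

/-- The quotient map, twisted. -/
def twMk {R : Type*} [CommRing R] (σ : R →+* R) {M : Type v} [AddCommGroup M] [Module R M] (P : Submodule R M) :
    Tw σ M →ₗ[R] Tw σ (M ⧸ P) where
  toFun x := P.mkQ (show M from x)
  map_add' x y := P.mkQ.map_add (show M from x) (show M from y)
  map_smul' c x := P.mkQ.map_smul (σ c) (show M from x)

theorem ker_twMk {R : Type*} [CommRing R] (σ : R →+* R) {M : Type v} [AddCommGroup M] [Module R M]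
    (P : Submodule R M) : LinearMap.ker (twMk σ P) = twSub σ P := by
  apply SetLike.ext
  intro x
  exact Submodule.Quotient.mk_eq_zero P (x := (show M from x))

theorem length_tw_quot {R : Type*} [CommRing R] (σ : R →+* R) (hσ : Function.Surjective σ) {M : Type v}
    [AddCommGroup M] [Module R M] (P : Submodule R M) :
    Module.length R (Tw σ M ⧸ twSub σ P) = Module.length R (M ⧸ P) := by
  rw [← length_tw σ hσ (M ⧸ P)]
  refine LinearEquiv.length_eq ((Submodule.quotEquivOfEq _ _ (ker_twMk σ P).symm).trans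
    ((twMk σ P).quotKerEquivOfSurjective fun z => ?_))
  obtain ⟨y, hy⟩ := P.mkQ_surjective (show M ⧸ P from z)
  exact ⟨y, hy⟩

theorem length_pi_quot {R : Type u} [CommRing R] {ι : Type} [Fintype ι] (M : ι → Type v) [∀ i, AddCommGroup (M i)]
    [∀ i, Module R (M i)] (a : R) :
    Module.length R ((∀ i, M i) ⧸ (a • LinearMap.id : (∀ i, M i) →ₗ[R] ∀ i, M i).range) =
      ∑ i, Module.length R (M i ⧸ (a • LinearMap.id : M i →ₗ[R] M i).range) := by
  classical
  have h : (a • LinearMap.id : (∀ i, M i) →ₗ[R] ∀ i, M i).range =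
      Submodule.pi Set.univ fun i => (a • LinearMap.id : M i →ₗ[R] M i).range := by
    ext x
    simp only [LinearMap.mem_range, Submodule.mem_pi, Set.mem_univ, forall_const, LinearMap.smul_apply, LinearMap.id_apply]
    exact ⟨fun ⟨y, hy⟩ i => ⟨y i, congrFun hy i⟩, fun hx => ⟨fun i => (hx i).choose, funext fun i => (hx i).choose_spec⟩⟩
  rw [LinearEquiv.length_eq ((Submodule.quotEquivOfEq _ _ h).trans (Submodule.quotientPi _)), Module.length_pi_of_fintype]
/-- A pure submodule with torsion quotient over a principal ideal domain is a direct summand. -/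
theorem exists_isCompl_of_pure {W : Type u} [CommRing W] [IsDomain W] [IsPrincipalIdealRing W] {π : W} (hirr : Irreducible π)
    {M N : Type v} [AddCommGroup M] [Module W M] [AddCommGroup N] [Module W N] [Module.Finite W N] (f : M →ₗ[W] N)
    (E : ℕ) (hE : ∀ x : N, π ^ E • x = 0)
    (hpure : ∀ (x : M) (n : ℕ) (y : N), f x = π ^ n • y → ∃ x', x = π ^ n • x') :
    ∃ Q : Submodule W N, IsCompl (LinearMap.range f) Q := by
  classical
  obtain ⟨d, e, ⟨eQ⟩⟩ := Module.torsion_by_prime_power_decomposition hirr
    (M := N ⧸ LinearMap.range f) ((Submodule.isTorsion'_powers_iff π).2 fun z => ⟨E, by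
      obtain ⟨y, rfl⟩ := Submodule.Quotient.mk_surjective _ z
      rw [← Submodule.Quotient.mk_smul, hE, Submodule.Quotient.mk_zero]⟩)
  have hlift : ∀ j : Fin d, ∃ y : N, Submodule.Quotient.mk y = eQ.symm (DirectSum.lof W _ _ j (Submodule.Quotient.mk 1)) ∧
      π ^ e j • y = 0 := fun j => by
    obtain ⟨y, hy⟩ := Submodule.Quotient.mk_surjective _ (eQ.symm (DirectSum.lof W _ _ j (Submodule.Quotient.mk (1 : W))))
    have h0 : π ^ e j • y ∈ LinearMap.range f := by
      rw [← Submodule.Quotient.mk_eq_zero, Submodule.Quotient.mk_smul, hy, ← map_smul, ← map_smul, ← Submodule.Quotient.mk_smul,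
        smul_eq_mul, mul_one, (Submodule.Quotient.mk_eq_zero _).2 (Submodule.mem_span_singleton_self (π ^ e j)), map_zero, map_zero]
    obtain ⟨x, hx⟩ := h0
    obtain ⟨x', rfl⟩ := hpure x (e j) y hx
    refine ⟨y - f x', ?_, by rw [smul_sub, ← map_smul, hx, sub_self]⟩
    rw [Submodule.Quotient.mk_sub, hy, (Submodule.Quotient.mk_eq_zero _).2 (LinearMap.mem_range_self f x'), sub_zero]
  choose y hy hy0 using hlift
  let s : (DirectSum (Fin d) fun j => W ⧸ Submodule.span W {π ^ e j}) →ₗ[W] N :=
    DirectSum.toModule W _ _ fun j => (Submodule.span W {π ^ e j}).liftQ (LinearMap.toSpanSingleton W N (y j))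
      ((Submodule.span_singleton_le_iff_mem _ _).2 (hy0 j))
  have hs : (LinearMap.range f).mkQ.comp s = eQ.symm.toLinearMap := by
    refine DirectSum.linearMap_ext W fun j => Submodule.linearMap_qext _ (LinearMap.ext_ring ?_)
    show Submodule.Quotient.mk (s (DirectSum.lof W _ _ j (Submodule.Quotient.mk 1))) = _
    rw [DirectSum.toModule_lof]
    show Submodule.Quotient.mk ((1 : W) • y j) = _
    rw [one_smul, hy]
    rfl
  refine ⟨LinearMap.range s, ?_, ?_⟩
  · rw [disjoint_iff, eq_bot_iff]
    rintro x ⟨hx, z, rfl⟩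
    have h := LinearMap.congr_fun hs z
    rw [LinearMap.comp_apply, Submodule.mkQ_apply, (Submodule.Quotient.mk_eq_zero _).2 hx] at h
    rw [eQ.symm.map_eq_zero_iff.1 h.symm, map_zero]
    exact Submodule.zero_mem _
  · rw [codisjoint_iff, eq_top_iff]
    intro x _
    refine Submodule.mem_sup.2 ⟨x - s (eQ (Submodule.Quotient.mk x)), ?_, _, LinearMap.mem_range_self s _, sub_add_cancel _ _⟩
    have h := LinearMap.congr_fun hs (eQ (Submodule.Quotient.mk x))
    rw [LinearMap.comp_apply, Submodule.mkQ_apply] at h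
    rw [← Submodule.Quotient.mk_eq_zero, Submodule.Quotient.mk_sub, h]
    exact sub_eq_zero.2 (eQ.symm_apply_apply _).symm

/-- The maps are injective with direct summand image. -/
theorem injective_and_summand {W : Type u} [CommRing W] [IsDomain W] [IsPrincipalIdealRing W] [IsLocalRing W]
    (σ : W →+* W) (hσ : Function.Surjective σ) (π : W) (hπ : σ π = π) (hirr : Irreducible π) (r : ℕ)
    (N : ℕ → Type v) [∀ i, AddCommGroup (N i)] [∀ i, Module W (N i)]
    (hfl : ∀ i, IsFiniteLength W (N i))
    (α : ∀ i, N (i + 1) →ₗ[W] N i) (φ : ∀ i, N i →ₛₗ[σ] N 0)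
    (hsurj : ∀ m : N 0, ∃ y : (i : ℕ) → N i, (∀ i, r < i → y i = 0) ∧
      (Finset.range (r + 1)).sum (fun i => φ i (y i)) = m)
    (hker : ∀ y : (i : ℕ) → N i, (∀ i, r < i → y i = 0) →
      (Finset.range (r + 1)).sum (fun i => φ i (y i)) = 0 →
        ∃ z : (i : ℕ) → N (i + 1), (∀ i, r ≤ i → z i = 0) ∧
          y 0 = α 0 (z 0) ∧ ∀ i, y (i + 1) = α (i + 1) (z (i + 1)) - π • z i)
    (i : ℕ) (hi : i < r) :
    Function.Injective (α i) ∧ ∃ Q : Submodule W (N i), IsCompl (LinearMap.range (α i)) Q := by
  classical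
  let S := ∀ j : Fin (r + 1), N j.1
  let T := ∀ j : Fin r, N (j.1 + 1)
  let ext : T → ∀ j : ℕ, N (j + 1) := fun z j => if h : j < r then z ⟨j, h⟩ else 0
  have hext : ∀ (z : T) (j : ℕ) (h : r ≤ j), ext z j = 0 := fun z j h => dif_neg (by omega)
  let extL : ∀ j : ℕ, T →ₗ[W] N (j + 1) := fun j => if h : j < r then LinearMap.proj (⟨j, h⟩ : Fin r) else 0
  have hextL : ∀ j z, extL j z = ext z j := fun j z => by
    by_cases h : j < r
    · simp only [extL, ext, dif_pos h]; rfl
    · simp only [extL, ext, dif_neg h]; rfl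
  let ιj : ∀ j : ℕ, T →ₗ[W] N j := fun j => match j with
    | 0 => (α 0).comp (extL 0)
    | j + 1 => (α (j + 1)).comp (extL (j + 1)) - π • extL j
  let ι : T →ₗ[W] S := LinearMap.pi fun j => ιj j.1
  let Φ : S →ₗ[W] Tw σ (N 0) :=
    { toFun := fun y => ∑ j : Fin (r + 1), φ j.1 (y j)
      map_add' := fun y y' => (Finset.sum_congr rfl fun (j : Fin (r + 1)) _ => map_add (φ j.1) (y j) (y' j)).trans
        Finset.sum_add_distrib
      map_smul' := fun c y => (Finset.sum_congr rfl fun (j : Fin (r + 1)) _ => (φ j.1).map_smulₛₗ c (y j)).trans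
        Finset.smul_sum.symm }
  let pad : S → ∀ j : ℕ, N j := fun y j => if h : j < r + 1 then y ⟨j, h⟩ else 0
  have hpad : ∀ y, (Finset.range (r + 1)).sum (fun j => φ j (pad y j)) = Φ y := fun y => by
    show _ = ∑ j : Fin (r + 1), φ j.1 (y j)
    rw [Finset.sum_range]
    exact Finset.sum_congr rfl fun j _ => by simp only [pad, dif_pos j.2, Fin.eta]
  have hΦsurj : Function.Surjective Φ := fun m => by
    obtain ⟨y, hy0, hy⟩ := hsurj m
    refine ⟨fun j => y j.1, ?_⟩
    show (∑ j : Fin (r + 1), φ j.1 (y j.1) : N 0) = (show N 0 from m)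
    rw [← Finset.sum_range (fun j => φ j (y j))]
    exact hy
  have hkerle : LinearMap.ker Φ ≤ LinearMap.range ι := fun y hy => by
    obtain ⟨z, hz0, hz1, hz2⟩ := hker (pad y) (fun j hj => dif_neg (by omega)) ((hpad y).trans hy)
    have he : ∀ j, ext (fun j : Fin r => z j.1) j = z j := fun j => by
      by_cases h : j < r
      · exact dif_pos h
      · exact (dif_neg h).trans (hz0 j (by omega)).symm
    refine ⟨fun j => z j.1, funext fun j => ?_⟩
    rcases j with ⟨_ | j, hj⟩
    · show α 0 (extL 0 _) = _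
      rw [hextL, he, ← hz1]
      exact dif_pos hj
    · show α (j + 1) (extL (j + 1) _) - π • extL j _ = _
      rw [hextL, hextL, he, he, ← hz2]
      exact dif_pos hj
  -- purity of `ι`
  have hpure : ∀ (n : ℕ) (z : T), (∃ y : S, ι z = π ^ n • y) → ∃ z' : T, z = π ^ n • z' := by
    intro n
    let a : W := π ^ n
    let PT := (a • LinearMap.id : T →ₗ[W] T).range
    let PS := (a • LinearMap.id : S →ₗ[W] S).range
    let P0 := (a • LinearMap.id : N 0 →ₗ[W] N 0).range
    have hfin : ∀ {ι' : Type} [Fintype ι'] (M : ι' → Type v) [∀ i, AddCommGroup (M i)] [∀ i, Module W (M i)],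
        (∀ i, IsFiniteLength W (M i)) → Module.length W (∀ i, M i) ≠ ⊤ := fun M _ _ hM => by
      rw [Module.length_pi_of_fintype]
      exact ENat.sum_ne_top.2 fun i _ => Module.length_ne_top_iff.2 (hM i)
    let ιb : (T ⧸ PT) →ₗ[W] (S ⧸ PS) := Submodule.mapQ PT PS ι (by
      rintro _ ⟨z, rfl⟩
      exact ⟨ι z, by simp⟩)
    let P0' : Submodule W (Tw σ (N 0)) := twSub σ P0
    have hσp : σ a = a := by rw [map_pow, hπ]
    let Φb : (S ⧸ PS) →ₗ[W] (Tw σ (N 0) ⧸ P0') := Submodule.mapQ PS P0' Φ (by
      rintro _ ⟨y, rfl⟩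
      refine ⟨Φ y, ?_⟩
      show a • (show N 0 from Φ y) = Φ (a • y)
      rw [map_smul]
      exact congrArg (fun c : W => c • (show N 0 from Φ y)) hσp.symm)
    have hΦb : Function.Surjective Φb := by
      rintro ⟨m⟩
      obtain ⟨y, rfl⟩ := hΦsurj m
      exact ⟨Submodule.Quotient.mk y, rfl⟩
    have hkb : LinearMap.ker Φb ≤ LinearMap.range ιb := by
      rintro ⟨y⟩ hy
      have hy' : Φ y ∈ P0' := (Submodule.Quotient.mk_eq_zero _).1 hy
      obtain ⟨m, hm⟩ := hy'
      obtain ⟨y', hy'⟩ := hΦsurj m
      have h0 : Φ (y - a • y') = 0 := by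
        rw [map_sub, map_smul, hy', sub_eq_zero]
        refine Eq.trans (show Φ y = (show Tw σ (N 0) from a • m) from hm.symm) ?_
        exact congrArg (fun c : W => c • (show N 0 from m)) hσp.symm
      obtain ⟨z, hz⟩ := hkerle (LinearMap.mem_ker.2 h0)
      refine ⟨Submodule.Quotient.mk z, ?_⟩
      show Submodule.Quotient.mk (ι z) = Submodule.Quotient.mk y
      rw [Submodule.Quotient.eq, hz]
      exact ⟨-y', by simp⟩
    have hS : Module.length W (S ⧸ PS) ≠ ⊤ :=
      ne_top_of_le_ne_top (hfin (fun j : Fin (r + 1) => N j.1) fun j => hfl _)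
        (Module.length_le_of_surjective _ (Submodule.mkQ_surjective _))
    have hinj : Function.Injective ιb := by
      have hlenS := length_pi_quot (fun j : Fin (r + 1) => N j.1) a
      have hlenT := length_pi_quot (fun j : Fin r => N (j.1 + 1)) a
      have h0 : Module.length W (Tw σ (N 0) ⧸ P0') = Module.length W (N 0 ⧸ P0) := length_tw_quot σ hσ P0
      have hsplit : Module.length W (S ⧸ PS) = Module.length W (T ⧸ PT) + Module.length W (Tw σ (N 0) ⧸ P0') := by
        rw [hlenS, hlenT, h0, Fin.sum_univ_succ, add_comm]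
        rfl
      have hker1 := Module.length_eq_add_of_exact (LinearMap.ker Φb).subtype Φb Subtype.val_injective hΦb
        (LinearMap.exact_subtype_ker_map Φb)
      have hker2 := Module.length_eq_add_of_exact (LinearMap.ker ιb).subtype ιb.rangeRestrict Subtype.val_injective
        ιb.surjective_rangeRestrict (by
          intro x
          simp [LinearMap.rangeRestrict, Subtype.ext_iff])
      have hle : Module.length W (LinearMap.ker Φb) ≤ Module.length W (LinearMap.range ιb) :=
        Module.length_le_of_injective _ (Submodule.inclusion_injective hkb)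
      have key : Module.length W (LinearMap.ker ιb) = 0 := by
        rw [hker2, hker1] at hsplit
        rw [hker1, ne_eq, ENat.add_eq_top, not_or] at hS
        have hR : Module.length W (LinearMap.range ιb) ≠ ⊤ := ne_top_of_le_ne_top (by rw [hker1, ne_eq, ENat.add_eq_top, not_or]; exact hS)
          (Module.length_le_of_injective (LinearMap.range ιb).subtype Subtype.val_injective)
        have hK : Module.length W (LinearMap.ker ιb) ≠ ⊤ := fun h => by
          rw [h, top_add, top_add, ENat.add_eq_top] at hsplit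
          exact hsplit.elim hS.1 hS.2
        obtain ⟨A, hA⟩ := ENat.ne_top_iff_exists.1 hS.1
        obtain ⟨B, hB⟩ := ENat.ne_top_iff_exists.1 hS.2
        obtain ⟨C, hC⟩ := ENat.ne_top_iff_exists.1 hR
        obtain ⟨D, hD⟩ := ENat.ne_top_iff_exists.1 hK
        rw [← hA, ← hB, ← hC, ← hD] at hsplit
        rw [← hA, ← hC] at hle
        rw [← hD]
        have e1 : A + B = D + C + B := by exact_mod_cast hsplit
        have e2 : A ≤ C := by exact_mod_cast hle
        exact_mod_cast (show D = 0 by omega)
      rw [Module.length_eq_zero_iff, Submodule.subsingleton_iff_eq_bot, LinearMap.ker_eq_bot] at key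
      exact key
    rintro z ⟨y, hy⟩
    obtain ⟨z', hz'⟩ := (Submodule.Quotient.mk_eq_zero PT).1 (hinj (show ιb (Submodule.Quotient.mk z) = ιb 0 by
      rw [map_zero]
      exact (Submodule.Quotient.mk_eq_zero PS).2 ⟨y, by simp [hy, a]⟩))
    exact ⟨z', hz'.symm⟩
  -- the image of `α i` is pure
  have hsingle : ∀ (x : N (i + 1)) (n : ℕ), (∃ y, α i x = π ^ n • y) →
      ∃ x', x = π ^ n • x' := by
    intro x n
    induction n with
    | zero => intro _; exact ⟨x, by simp⟩
    | succ n ih =>
      rintro ⟨y, hy⟩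
      obtain ⟨x', hx'⟩ := ih ⟨π • y, by rw [hy, pow_succ, mul_smul]⟩
      let z : T := Pi.single ⟨i, hi⟩ x
      have he : ∀ j, ext z j = if h : j = i then (h ▸ x : N (j + 1)) else 0 := fun j => by
        by_cases h : j < r
        · simp only [ext, dif_pos h]
          by_cases hji : j = i
          · subst hji; rw [dif_pos rfl]; exact Pi.single_eq_same _ _
          · rw [dif_neg hji]; exact Pi.single_eq_of_ne (fun e => hji (congrArg Fin.val e)) _
        · rw [hext _ _ (by omega), dif_neg (by omega)]
      have hmem : ∀ j : ℕ, ∃ w : N j, ιj j z = π ^ (n + 1) • w := by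
        intro j
        rcases j with _ | j
        · show ∃ w, α 0 (extL 0 z) = _
          rw [hextL, he]
          split_ifs with h
          · subst h; exact ⟨y, hy⟩
          · exact ⟨0, by simp⟩
        · show ∃ w, α (j + 1) (extL (j + 1) z) - π • extL j z = _
          rw [hextL, hextL, he, he]
          split_ifs with h h' h'
          · omega
          · subst h; exact ⟨y, by simpa using hy⟩
          · subst h'; exact ⟨-x', by rw [map_zero, zero_sub, smul_neg, hx', pow_succ', mul_smul]⟩
          · exact ⟨0, by simp⟩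
      choose w hw using hmem
      obtain ⟨z', hz'⟩ := hpure (n + 1) z ⟨fun j => w j.1, funext fun j => hw j.1⟩
      exact ⟨z' ⟨i, hi⟩, (Pi.single_eq_same (M := fun j : Fin r => N (j.1 + 1)) ⟨i, hi⟩ x).symm.trans (congrFun hz' ⟨i, hi⟩)⟩
  have hp0 : ∀ j, ∃ E : ℕ, ∀ x : N j, π ^ E • x = 0 := fun j => by
    haveI hN := isFiniteLength_iff_isNoetherian_isArtinian.1 (hfl j)
    haveI := hN.1
    haveI := hN.2
    let f : ℕ →o (Submodule W (N j))ᵒᵈ :=
      { toFun := fun n => OrderDual.toDual ((π ^ n • LinearMap.id : N j →ₗ[W] N j).range)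
        monotone' := fun a b hab => by
          rintro _ ⟨y, rfl⟩
          exact ⟨π ^ (b - a) • y, by
            simp only [LinearMap.smul_apply, LinearMap.id_apply]
            rw [← mul_smul, ← pow_add, Nat.add_sub_cancel' hab]⟩ }
    obtain ⟨E, hE⟩ := IsArtinian.monotone_stabilizes f
    have hbot : (π ^ E • LinearMap.id : N j →ₗ[W] N j).range = ⊥ := by
      refine Submodule.eq_bot_of_le_smul_of_le_jacobson_bot (Ideal.span {π}) _ (IsNoetherian.noetherian _) ?_ ?_
      · rw [show (π ^ E • LinearMap.id : N j →ₗ[W] N j).range = (π ^ (E + 1) • LinearMap.id : N j →ₗ[W] N j).range from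
          congrArg OrderDual.ofDual (hE (E + 1) (Nat.le_succ E))]
        rintro _ ⟨y, rfl⟩
        rw [show (π ^ (E + 1) • LinearMap.id : N j →ₗ[W] N j) y = π • (π ^ E • y) by simp [pow_succ', mul_smul]]
        refine Submodule.smul_mem_smul (Ideal.mem_span_singleton_self π) ?_
        have h : (π ^ E • LinearMap.id : N j →ₗ[W] N j).range = (π ^ (E + 1) • LinearMap.id : N j →ₗ[W] N j).range :=
          congrArg OrderDual.ofDual (hE (E + 1) (Nat.le_succ E))
        exact h.le ⟨y, rfl⟩
      · rw [IsLocalRing.jacobson_eq_maximalIdeal ⊥ bot_ne_top, Ideal.span_singleton_le_iff_mem]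
        exact hirr.not_isUnit
    exact ⟨E, fun x => by
      have : π ^ E • x ∈ (π ^ E • LinearMap.id : N j →ₗ[W] N j).range := ⟨x, rfl⟩
      rw [hbot] at this
      exact this⟩
  refine ⟨?_, ?_⟩
  · rw [← LinearMap.ker_eq_bot, eq_bot_iff]
    intro x hx
    obtain ⟨E, hE⟩ := hp0 (i + 1)
    obtain ⟨x', rfl⟩ := hsingle x E ⟨0, by rw [LinearMap.mem_ker.1 hx, smul_zero]⟩
    exact hE x'
  · obtain ⟨E, hE⟩ := hp0 i
    haveI := (isFiniteLength_iff_isNoetherian_isArtinian.1 (hfl i)).1
    exact exists_isCompl_of_pure hirr (α i) E hE fun x n y hy => hsingle x n ⟨y, hy⟩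

end Groth.Agent.FLSplit
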